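import Mathlib.Algebra.Homology.DerivedCategory.Fractions
import Mathlib.Algebra.Homology.DerivedCategory.TStructure
import Mathlib.Data.Countable.Basic
import Mathlib.Logic.Equiv.List
import Mathlib.Order.Interval.Finset.Basic
import Mathlib.Data.Int.Interval

/-!
# The bounded derived category of a countable abelian category is countable
-/

set_option linter.style.haveILetI false
set_option linter.unusedSectionVars false

universe w v u

open CategoryTheory CategoryTheory.Limits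
open scoped ZeroObject

namespace Groth.Agent.CountDb

variable {A : Type u} [Category.{v} A] [Abelian A] (e : ℕ → A)

/-- A finite description of a bounded complex. -/
abbrev Code (a b : ℤ) : Type v :=
  Σ idx : Finset.Icc a b → ℕ, ∀ i j : Finset.Icc a b, (e (idx i) ⟶ e (idx j))

/-- The code describes the complex. -/
def Describes {a b : ℤ} (c : Code e a b) (K : CochainComplex A ℤ) : Prop :=
  K.IsStrictlyGE a ∧ K.IsStrictlyLE b ∧ ∃ φ : ∀ i : Finset.Icc a b, K.X i.1 ≅ e (c.1 i),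
    ∀ i j, (φ i).inv ≫ K.d i.1 j.1 ≫ (φ j).hom = c.2 i j

omit [Abelian A] in
lemma countable_code (hhom : ∀ X Y : A, Countable (X ⟶ Y)) (a b : ℤ) : Countable (Code e a b) := by
  haveI := hhom
  infer_instance

lemma exists_describes (he : ∀ X : A, ∃ n : ℕ, Nonempty (X ≅ e n)) (K : CochainComplex A ℤ) (a b : ℤ)
    [K.IsStrictlyGE a] [K.IsStrictlyLE b] : ∃ c : Code e a b, Describes e c K := by
  choose idx hφ using fun i : Finset.Icc a b => he (K.X i.1)
  exact ⟨⟨idx, fun i j => (hφ i).some.inv ≫ K.d i.1 j.1 ≫ (hφ j).some.hom⟩, inferInstance, inferInstance,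
    fun i => (hφ i).some, fun i j => rfl⟩

lemma nonempty_iso {a b : ℤ} {c : Code e a b} {K L : CochainComplex A ℤ} (hK : Describes e c K)
    (hL : Describes e c L) : Nonempty (K ≅ L) := by
  obtain ⟨hKa, hKb, φ, hφ⟩ := hK
  obtain ⟨hLa, hLb, ψ, hψ⟩ := hL
  have hz : ∀ (M : CochainComplex A ℤ), M.IsStrictlyGE a → M.IsStrictlyLE b → ∀ i, i ∉ Finset.Icc a b →
      IsZero (M.X i) := fun M h₁ h₂ i hi => by
    rcases lt_or_ge i a with h | h
    · exact M.isZero_of_isStrictlyGE a i h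
    · exact M.isZero_of_isStrictlyLE b i (by
        by_contra h'
        exact hi (Finset.mem_Icc.2 ⟨h, not_lt.1 h'⟩))
  let f : ∀ i, K.X i ≅ L.X i := fun i =>
    if h : i ∈ Finset.Icc a b then φ ⟨i, h⟩ ≪≫ (ψ ⟨i, h⟩).symm
    else (hz K hKa hKb i h).iso (hz L hLa hLb i h)
  refine ⟨HomologicalComplex.Hom.isoOfComponents f fun i j _ => ?_⟩
  by_cases hi : i ∈ Finset.Icc a b
  · by_cases hj : j ∈ Finset.Icc a b
    · simp only [f, dif_pos hi, dif_pos hj, Iso.trans_hom, Iso.symm_hom]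
      have h := (hψ ⟨i, hi⟩ ⟨j, hj⟩).trans (hφ ⟨i, hi⟩ ⟨j, hj⟩).symm
      have h2 := congrArg (fun t => (φ ⟨i, hi⟩).hom ≫ t ≫ (ψ ⟨j, hj⟩).inv) h
      simpa using h2
    · exact (hz L hLa hLb j hj).eq_of_tgt _ _
  · exact (hz K hKa hKb i hi).eq_of_src _ _

omit [Abelian A] in
lemma countable_hom [Abelian A] (hhom : ∀ X Y : A, Countable (X ⟶ Y)) (K L : CochainComplex A ℤ) (a b : ℤ)
    [K.IsStrictlyGE a] [K.IsStrictlyLE b] : Countable (K ⟶ L) := by
  haveI := hhom
  refine Function.Injective.countable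
    (f := fun (g : K ⟶ L) (i : Finset.Icc a b) => g.f i.1) fun g g' h => ?_
  refine HomologicalComplex.hom_ext _ _ fun i => ?_
  by_cases hi : i ∈ Finset.Icc a b
  · exact congrFun h ⟨i, hi⟩
  · rcases lt_or_ge i a with h | h
    · exact (K.isZero_of_isStrictlyGE a i h).eq_of_src _ _
    · exact (K.isZero_of_isStrictlyLE b i (by
        by_contra h'
        exact hi (Finset.mem_Icc.2 ⟨h, not_lt.1 h'⟩))).eq_of_src _ _

variable [HasDerivedCategory.{w} A]

lemma countable_hom_Q (hhom : ∀ X Y : A, Countable (X ⟶ Y)) (he : ∀ X : A, ∃ n : ℕ, Nonempty (X ≅ e n))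
    (X Y : CochainComplex A ℤ) (a b : ℤ) [X.IsStrictlyGE a] [X.IsStrictlyLE b] [Y.IsStrictlyGE a] :
    Countable (DerivedCategory.Q.obj X ⟶ DerivedCategory.Q.obj Y) := by
  classical
  haveI := countable_code e hhom a b
  let D := {c : Code e a b // ∃ K, Describes e c K}
  let rep : D → CochainComplex A ℤ := fun c => c.2.choose
  have hrep : ∀ c : D, Describes e c.1 (rep c) := fun c => c.2.choose_spec
  haveI : ∀ c : D, Countable (rep c ⟶ X) := fun c =>
    haveI := (hrep c).1; haveI := (hrep c).2.1; countable_hom hhom _ _ a b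
  haveI : ∀ c : D, Countable (rep c ⟶ Y) := fun c =>
    haveI := (hrep c).1; haveI := (hrep c).2.1; countable_hom hhom _ _ a b
  let F : (Σ c : D, (rep c ⟶ X) × (rep c ⟶ Y)) → (DerivedCategory.Q.obj X ⟶ DerivedCategory.Q.obj Y) :=
    fun ⟨_, s, g⟩ => if h : IsIso (DerivedCategory.Q.map s) then
      @inv _ _ _ _ (DerivedCategory.Q.map s) h ≫ DerivedCategory.Q.map g else 0
  refine Function.Surjective.countable (f := F) fun f => ?_
  obtain ⟨X', h₁, h₂, s, hs, g, fac⟩ := DerivedCategory.right_fac_of_isStrictlyLE_of_isStrictlyGE a b f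
  haveI := h₁
  haveI := h₂
  haveI := hs
  obtain ⟨c, hc⟩ := exists_describes e he X' a b
  let d : D := ⟨c, X', hc⟩
  obtain ⟨φ⟩ := nonempty_iso e (hrep d) hc
  refine ⟨⟨d, φ.hom ≫ s, φ.hom ≫ g⟩, ?_⟩
  haveI : IsIso (DerivedCategory.Q.map (φ.hom ≫ s)) := by rw [Functor.map_comp]; infer_instance
  change dite _ _ _ = f
  rw [dif_pos ‹_›, fac, IsIso.inv_comp_eq, Functor.map_comp, Functor.map_comp, Category.assoc,
    IsIso.hom_inv_id_assoc]

theorem main (hhom : ∀ X Y : A, Countable (X ⟶ Y))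
    (hiso : ∃ e : ℕ → A, ∀ X : A, ∃ n : ℕ, Nonempty (X ≅ e n)) :
    (∀ K L : DerivedCategory.Bounded A, Countable (K ⟶ L)) ∧
      ∃ e : ℕ → DerivedCategory.Bounded A, ∀ K : DerivedCategory.Bounded A,
        ∃ n : ℕ, Nonempty (K ≅ e n) := by
  classical
  obtain ⟨e, he⟩ := hiso
  let t : Triangulated.TStructure (DerivedCategory A) := DerivedCategory.TStructure.t
  have hb : ∀ K : DerivedCategory.Bounded A, ∃ a b : ℤ, K.obj.IsGE a ∧ K.obj.IsLE b := fun K => by
    obtain ⟨⟨a, ha⟩, ⟨b, hb⟩⟩ := K.2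
    exact ⟨a, b, ha, hb⟩
  constructor
  · intro K L
    obtain ⟨a, b, ha, hb'⟩ := hb K
    obtain ⟨a', b', ha', hb''⟩ := hb L
    haveI := t.isGE_of_ge K.obj (min a a') a (min_le_left _ _)
    haveI := t.isGE_of_ge L.obj (min a a') a' (min_le_right _ _)
    haveI := hb'
    haveI := hb''
    obtain ⟨X, _, _, ⟨eX⟩⟩ := DerivedCategory.exists_iso_Q_obj_of_isGE_of_isLE K.obj (min a a') b
    obtain ⟨Y, _, _, ⟨eY⟩⟩ := DerivedCategory.exists_iso_Q_obj_of_isGE_of_isLE L.obj (min a a') b'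
    haveI := countable_hom_Q e hhom he X Y (min a a') b
    exact Function.Injective.countable (f := fun f : K ⟶ L => eX.inv ≫ f.hom ≫ eY.hom) fun f g h =>
      InducedCategory.hom_ext (by simpa using h)
  · let D := {c : Σ p : ℤ × ℤ, Code e p.1 p.2 // ∃ K : DerivedCategory.Bounded A, ∃ X : CochainComplex A ℤ,
      Describes e c.2 X ∧ Nonempty (K.obj ≅ DerivedCategory.Q.obj X)}
    haveI : ∀ p : ℤ × ℤ, Countable (Code e p.1 p.2) := fun p => countable_code e hhom p.1 p.2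
    have hz : (t.bounded) (0 : DerivedCategory A) :=
      ⟨⟨0, (DerivedCategory.isGE_iff _ _).2 fun i _ => Functor.map_isZero _ (isZero_zero _)⟩,
        ⟨0, (DerivedCategory.isLE_iff _ _).2 fun i _ => Functor.map_isZero _ (isZero_zero _)⟩⟩
    obtain ⟨f, hf⟩ : ∃ f : ℕ → Option D, Function.Surjective f := exists_surjective_nat _
    refine ⟨fun n => (f n).elim ⟨0, hz⟩ fun d => d.2.choose, fun K => ?_⟩
    obtain ⟨a, b, ha, hb'⟩ := hb K
    haveI := ha
    haveI := hb'
    obtain ⟨X, _, _, ⟨eX⟩⟩ := DerivedCategory.exists_iso_Q_obj_of_isGE_of_isLE K.obj a b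
    obtain ⟨c, hc⟩ := exists_describes e he X a b
    let d : D := ⟨⟨(a, b), c⟩, K, X, hc, ⟨eX⟩⟩
    obtain ⟨n, hn⟩ := hf (some d)
    refine ⟨n, ?_⟩
    simp only [hn, Option.elim_some]
    obtain ⟨X', hX', ⟨eX'⟩⟩ := d.2.choose_spec
    obtain ⟨ψ⟩ := nonempty_iso e hc hX'
    exact ⟨ObjectProperty.isoMk _ (eX ≪≫ DerivedCategory.Q.mapIso ψ ≪≫ eX'.symm)⟩

end Groth.Agent.CountDb
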